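import Cfsg.Agent.H455.P9.Blk

/-!
# S5925, box H: the branches alpha, beta1, beta2 and their 0-copies, plan v3 (helper455)
-/

set_option autoImplicit false
set_option linter.style.longLine false

namespace Cfsg.Agent.H455.P9
open Matrix Cfsg.Agent.H879.E83 Cfsg.Agent.H780.P9

section
variable {F : Type*} [Field F] {g : F} {q p : Mt F} {m : F} {t : Fin 10 → F}

/-- the scalars used by the branches -/
def KO (p : Mt F) (ks : List F) : Prop :=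
  ks.getD 23 0 = p 1 4 ^ 9 ∧ ks.getD 24 0 = (p 1 4 ^ 9) ^ 79 ∧ ks.getD 34 0 = QQ p 0 3 ∧ ks.getD 35 0 = QQ p 0 4 ∧
    ks.getD 36 0 = QQ p 0 3 ^ 9

theorem KO_38 : KO p (K38 g p t) := ⟨rfl, rfl, rfl, rfl, rfl⟩

theorem KO_40 (x y : F) : KO p (K40 g p t x y) := ⟨rfl, rfl, rfl, rfl, rfl⟩

/-- the common part of the equations `e1`, `e4` -/
theorem eq1 (c : Ctx g q p m t) :
    (p 0 1 * p 0 1 ^ 9 + (p 0 0 * p 0 2 ^ 9 + (p 0 0 * p 0 2 ^ 9) ^ 9)) -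
        (p 0 3 * ((p 0 4) ^ 3) ^ 3 + ((p 0 3 * ((p 0 4) ^ 3) ^ 3) ^ 3) ^ 3) = 0 := by
  rw [ctx_e1 c]
  ring

theorem eq4 (c : Ctx g q p m t) :
    (p 1 2 * p 1 2 ^ 9 + (p 0 2 * p 2 2 ^ 9 + (p 0 2 * p 2 2 ^ 9) ^ 9)) -
        (p 2 3 * ((p 2 4) ^ 3) ^ 3 + ((p 2 3 * ((p 2 4) ^ 3) ^ 3) ^ 3) ^ 3) = 0 := by
  rw [ctx_e4 c]
  ring

/-! ### alpha -/

def ATp (pl : Plan) : Plan :=
  (.df (.sub (.v 3) (.mul (.v 7) (.k 23)))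
  (.df (.mul (.sub (.v 4) (.v 8)) (.k 24))
  (.df (.mul (.v 7) (.fr (.fr (.v 9))))
  (.df (.mul (.v 10) (.fr (.fr (.v 8))))
  (.fl [(.sub (.mul (.v 9) (.fr (.fr (.v 10)))) (.k 35)), (.sub (.v 5) (.add (.v 11) (.fr (.fr (.v 11))))), (.sub (.v 6) (.add (.v 12) (.fr (.fr (.v 12)))))] [1, 0, 2, 7, 8, 9, 10]
  pl)))))

theorem wp_ATp (c : Ctx g q p m t) (h13 : p 1 3 = 1) (h14 : p 1 4 ≠ 0) {ks : List F} (hk : KO p ks) {G : Prop} {pl : Plan}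
    (h : WP g G pl ks (LS2 p)) : WP g G (ATp pl) ks (LC p ++ [p 0 3, p 2 4]) := by
  have al := ctx_al c
  have be := ctx_be c
  rw [h13, one_pow, mul_one] at al be
  have h80 := pow80 (c.p81 1 4) h14
  unfold ATp
  refine WP_df (x := p 0 4) ?_ ?_
  · show (p 0 0 * p 1 2 ^ 9 + p 0 1 * p 1 1 ^ 9 + p 0 2 * p 0 1 ^ 9) - p 0 3 * ks.getD 23 0 = p 0 4
    rw [al, hk.1]
    ring
  refine WP_df (x := p 2 3) ?_ ?_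
  · show ((p 0 2 * p 1 2 ^ 9 + p 1 2 * p 1 1 ^ 9 + p 2 2 * p 0 1 ^ 9) - p 2 4) * ks.getD 24 0 = p 2 3
    rw [be, hk.2.1]
    calc (p 2 3 * p 1 4 ^ 9 + p 2 4 - p 2 4) * (p 1 4 ^ 9) ^ 79 = p 2 3 * (p 1 4 ^ 80) ^ 9 := by ring
      _ = p 2 3 := by rw [h80, one_pow, mul_one]
  refine WP_df (x := p 0 3 * ((p 0 4) ^ 3) ^ 3) rfl ?_
  refine WP_df (x := p 2 3 * ((p 2 4) ^ 3) ^ 3) rfl ?_
  refine WP_fl (ls' := LS2 p) ?_ rfl h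
  intro e he
  simp only [List.mem_cons, List.not_mem_nil, or_false] at he
  rcases he with rfl | rfl | rfl
  · show p 0 4 * ((p 2 3) ^ 3) ^ 3 - ks.getD 35 0 = 0
    rw [hk.2.2.2.1, QQ04]
    ring
  · exact eq1 c
  · exact eq4 c

theorem wp_Alpha (c : Ctx g q p m t) (h13 : p 1 3 = 1) (h14 : p 1 4 ≠ 0) (h : WS2 g q p t) : WC g q p t plAlpha := by
  have hc := wp_ATp c h13 h14 (KO_40 0 0) h
  show WP g (Sol g q) (T9 (PR 34 36 7 (ATp plS2))) (K33 g p t) (LC p)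
  refine wp_T9 c (wp_PR (x := p 0 3) (z := p 2 4) rfl (c.p81 0 3) (c.p81 2 4) ?_ ?_ hc)
  · exact QQ03 p
  · rw [← QQ03]; rfl

theorem wp_Alpha0 (c : Ctx g q p m t) (h13 : p 1 3 = 1) (h14 : p 1 4 ≠ 0) (h : WS2x g q p t plS2i) :
    WC g q p t plAlpha0 := by
  have hc := wp_ATp c h13 h14 KO_38 h
  show WP g (Sol g q) (T9c (PR 34 36 7 (ATp plS2i))) (K33 g p t) (LC p)
  refine wp_T9c c (wp_PR (x := p 0 3) (z := p 2 4) rfl (c.p81 0 3) (c.p81 2 4) ?_ ?_ hc)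
  · exact QQ03 p
  · rw [← QQ03]; rfl

/-! ### beta1 -/

def B1p (pl : Plan) : Plan :=
  (.ex (.df (.mul (.v 7) (.fr (.fr (.v 3))))
  (.fl [(.sub (.mul (.v 7) (.fr (.fr (.v 4)))) (.k 34)), (.sub (.v 5) (.add (.v 9) (.fr (.fr (.v 9)))))] [0, 1, 2, 3, 4, 5, 6, 7]
  (.ex (.df (.mul (.v 8) (.fr (.fr (.v 4))))
  (.fl [(.sub (.mul (.v 3) (.fr (.fr (.v 8)))) (.k 35)), (.sub (.v 6) (.add (.v 10) (.fr (.fr (.v 10)))))] [1, 0, 2, 7, 4, 3, 8]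
  pl))))))

theorem wp_B1p (c : Ctx g q p m t) (h13 : p 1 3 = 1) (h14 : p 1 4 = 0) {ks : List F} (hk : KO p ks) {G : Prop} {pl : Plan}
    (h : WP g G pl ks (LS2 p)) : WP g G (B1p pl) ks (LC p) := by
  have al := ctx_al c
  have be := ctx_be c
  rw [h13, h14] at al be
  have al' : p 0 0 * p 1 2 ^ 9 + p 0 1 * p 1 1 ^ 9 + p 0 2 * p 0 1 ^ 9 = p 0 4 := by rw [al]; ring
  have be' : p 0 2 * p 1 2 ^ 9 + p 1 2 * p 1 1 ^ 9 + p 2 2 * p 0 1 ^ 9 = p 2 4 := by rw [be]; ring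
  unfold B1p
  refine WP_ex (p 0 3) (c.p81 0 3) (WP_df (x := p 0 3 * ((p 0 4) ^ 3) ^ 3) ?_ ?_)
  · show p 0 3 * ((p 0 0 * p 1 2 ^ 9 + p 0 1 * p 1 1 ^ 9 + p 0 2 * p 0 1 ^ 9) ^ 3) ^ 3 = _
    rw [al']
  refine WP_fl (ls' := LC p ++ [p 0 3]) ?_ rfl ?_
  · intro e he
    simp only [List.mem_cons, List.not_mem_nil, or_false] at he
    rcases he with rfl | rfl
    · show p 0 3 * ((p 0 2 * p 1 2 ^ 9 + p 1 2 * p 1 1 ^ 9 + p 2 2 * p 0 1 ^ 9) ^ 3) ^ 3 - ks.getD 34 0 = 0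
      rw [hk.2.2.1, QQ03, be']
      ring
    · exact eq1 c
  refine WP_ex (p 2 3) (c.p81 2 3) (WP_df (x := p 2 3 * ((p 2 4) ^ 3) ^ 3) ?_ ?_)
  · show p 2 3 * ((p 0 2 * p 1 2 ^ 9 + p 1 2 * p 1 1 ^ 9 + p 2 2 * p 0 1 ^ 9) ^ 3) ^ 3 = _
    rw [be']
  refine WP_fl (ls' := LS2 p) ?_ ?_ h
  · intro e he
    simp only [List.mem_cons, List.not_mem_nil, or_false] at he
    rcases he with rfl | rfl
    · show (p 0 0 * p 1 2 ^ 9 + p 0 1 * p 1 1 ^ 9 + p 0 2 * p 0 1 ^ 9) * ((p 2 3) ^ 3) ^ 3 - ks.getD 35 0 = 0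
      rw [hk.2.2.2.1, QQ04, al']
      ring
    · exact eq4 c
  · show [p 0 0, p 0 2, p 2 2, p 0 3, p 0 2 * p 1 2 ^ 9 + p 1 2 * p 1 1 ^ 9 + p 2 2 * p 0 1 ^ 9,
      p 0 0 * p 1 2 ^ 9 + p 0 1 * p 1 1 ^ 9 + p 0 2 * p 0 1 ^ 9, p 2 3] = _
    rw [al', be', LS2]

theorem wp_Beta1 (c : Ctx g q p m t) (h13 : p 1 3 = 1) (h14 : p 1 4 = 0) (h : WS2 g q p t) : WC g q p t plBeta1 :=
  wp_T9 c (wp_B1p c h13 h14 (KO_40 0 0) h)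

theorem wp_Beta10 (c : Ctx g q p m t) (h13 : p 1 3 = 1) (h14 : p 1 4 = 0) (h : WS2x g q p t plS2i) :
    WC g q p t plBeta10 :=
  wp_T9c c (wp_B1p c h13 h14 KO_38 h)

/-! ### beta2 -/

def B2p (pl : Plan) : Plan :=
  (.ex (.df (.mul (.v 3) (.fr (.fr (.v 7))))
  (.fl [(.sub (.mul (.v 7) (.fr (.fr (.v 4)))) (.k 35)), (.sub (.v 5) (.add (.v 9) (.fr (.fr (.v 9)))))] [0, 1, 2, 3, 4, 5, 6, 7]
  (.ex (.df (.mul (.v 4) (.fr (.fr (.v 8))))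
  (.fl [(.sub (.mul (.v 3) (.fr (.fr (.v 8)))) (.k 34)), (.sub (.v 6) (.add (.v 10) (.fr (.fr (.v 10)))))] [1, 0, 2, 3, 8, 7, 4]
  pl))))))

theorem wp_B2p (c : Ctx g q p m t) (h13 : p 1 3 = 0) (h14 : p 1 4 = 1) {ks : List F} (hk : KO p ks) {G : Prop} {pl : Plan}
    (h : WP g G pl ks (LS2 p)) : WP g G (B2p pl) ks (LC p) := by
  have al := ctx_al c
  have be := ctx_be c
  rw [h13, h14] at al be
  have al' : p 0 0 * p 1 2 ^ 9 + p 0 1 * p 1 1 ^ 9 + p 0 2 * p 0 1 ^ 9 = p 0 3 := by rw [al]; ring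
  have be' : p 0 2 * p 1 2 ^ 9 + p 1 2 * p 1 1 ^ 9 + p 2 2 * p 0 1 ^ 9 = p 2 3 := by rw [be]; ring
  unfold B2p
  refine WP_ex (p 0 4) (c.p81 0 4) (WP_df (x := p 0 3 * ((p 0 4) ^ 3) ^ 3) ?_ ?_)
  · show (p 0 0 * p 1 2 ^ 9 + p 0 1 * p 1 1 ^ 9 + p 0 2 * p 0 1 ^ 9) * ((p 0 4) ^ 3) ^ 3 = _
    rw [al']
  refine WP_fl (ls' := LC p ++ [p 0 4]) ?_ rfl ?_
  · intro e he
    simp only [List.mem_cons, List.not_mem_nil, or_false] at he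
    rcases he with rfl | rfl
    · show p 0 4 * ((p 0 2 * p 1 2 ^ 9 + p 1 2 * p 1 1 ^ 9 + p 2 2 * p 0 1 ^ 9) ^ 3) ^ 3 - ks.getD 35 0 = 0
      rw [hk.2.2.2.1, QQ04, be']
      ring
    · exact eq1 c
  refine WP_ex (p 2 4) (c.p81 2 4) (WP_df (x := p 2 3 * ((p 2 4) ^ 3) ^ 3) ?_ ?_)
  · show (p 0 2 * p 1 2 ^ 9 + p 1 2 * p 1 1 ^ 9 + p 2 2 * p 0 1 ^ 9) * ((p 2 4) ^ 3) ^ 3 = _
    rw [be']
  refine WP_fl (ls' := LS2 p) ?_ ?_ h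
  · intro e he
    simp only [List.mem_cons, List.not_mem_nil, or_false] at he
    rcases he with rfl | rfl
    · show (p 0 0 * p 1 2 ^ 9 + p 0 1 * p 1 1 ^ 9 + p 0 2 * p 0 1 ^ 9) * ((p 2 4) ^ 3) ^ 3 - ks.getD 34 0 = 0
      rw [hk.2.2.1, QQ03, al']
      ring
    · exact eq4 c
  · show [p 0 0, p 0 2, p 2 2, p 0 0 * p 1 2 ^ 9 + p 0 1 * p 1 1 ^ 9 + p 0 2 * p 0 1 ^ 9, p 2 4, p 0 4,
      p 0 2 * p 1 2 ^ 9 + p 1 2 * p 1 1 ^ 9 + p 2 2 * p 0 1 ^ 9] = _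
    rw [al', be', LS2]

theorem wp_Beta2 (c : Ctx g q p m t) (h13 : p 1 3 = 0) (h14 : p 1 4 = 1) (h : WS2 g q p t) : WC g q p t plBeta2 :=
  wp_T9 c (wp_B2p c h13 h14 (KO_40 0 0) h)

theorem wp_Beta20 (c : Ctx g q p m t) (h13 : p 1 3 = 0) (h14 : p 1 4 = 1) (h : WS2x g q p t plS2j) :
    WC g q p t plBeta20 :=
  wp_T9c c (wp_B2p c h13 h14 KO_38 h)

end
end Cfsg.Agent.H455.P9
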